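import Cfsg.Agent.H9.ChevD4

/-! The adjoint module of type `D₄` and the exterior square of the natural module: tables. -/

set_option autoImplicit false
set_option maxRecDepth 100000

namespace Cfsg.Agent.LB.D4

open Cfsg.Lie Cfsg.Agent.H9.Chev

abbrev J : Type := Fin 4 ⊕ Fin 4

def pI (r : ℕ) : J := List.getD [.inr 0, .inr 0, .inr 0, .inr 0, .inr 0, .inr 0, .inr 1, .inr 1, .inr 1,
  .inr 1, .inr 2, .inr 2, .inl 2, .inl 2, .inl 1, .inl 1, .inl 1, .inl 1, .inl 0, .inl 0, .inl 0, .inl 0,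
  .inl 0, .inl 0] r (.inl 0)

def wI (r : ℕ) : J := List.getD [.inr 1, .inr 2, .inl 3, .inr 3, .inl 2, .inl 1, .inr 2, .inl 3, .inr 3,
  .inl 2, .inl 3, .inr 3, .inl 3, .inr 3, .inr 2, .inl 3, .inr 3, .inl 2, .inr 1, .inr 2, .inl 3, .inr 3,
  .inl 2, .inl 1] r (.inl 1)

def sg (r : ℕ) : ℤ := List.getD
  [-1, -1, -1, -1, 1, -1, 1, 1, 1, -1, -1, -1, 1, 1, 1, -1, -1, -1, 1, -1, 1, 1, 1, 1] r 1

def EL (b : ℕ) : List (ℤ × J × J) :=
  if b < 4 then List.getD [[(1, .inl 0, .inr 0), (-1, .inl 1, .inr 1)], [(1, .inl 1, .inr 1), (-1, .inl 2, .inr 2)],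
    [(1, .inl 2, .inr 2), (-1, .inl 3, .inr 3)], [(1, .inl 2, .inr 2), (1, .inl 3, .inr 3)]] b []
  else [(sg (b - 4), pI (b - 4), wI (b - 4))]

def dl (i j : J) : ℤ := if i = j then 1 else 0

def nz (r : ℕ) (i q : J) : ℤ := sg r * (dl q (wI r).swap * dl i (pI r) - dl q (pI r).swap * dl i (wI r))

def ent {R : Type*} [CommRing R] (L : List (ℤ × J × J)) (f g : J → J → R) (i j : J) : R :=
  (L.map fun e => (e.1 : R) * (f i e.2.1 * g j e.2.2 - f i e.2.2 * g j e.2.1)).sum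

def cf (C : Col) (k : ℕ) (i j : J) : ℤ :=
  (C.map fun x => if x.2.1 = k then x.2.2 * ent (EL x.1) dl dl i j else 0).sum

theorem chk_all : ∀ r < 24, ∀ b < 28, (∀ x ∈ restD chevD4 r b, x.1 < 28 ∧ (x.2.1 = 1 ∨ x.2.1 = 2)) ∧
    ∀ i j, cf (restD chevD4 r b) 1 i j = ent (EL b) (nz r) dl i j + ent (EL b) dl (nz r) i j ∧
      cf (restD chevD4 r b) 2 i j = ent (EL b) (nz r) (nz r) i j := by
  decide +kernel

end Cfsg.Agent.LB.D4
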